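import Cfsg.Agent.Lib.Helper12.TC.Hex4116.Tab

/-! relator checks for Hex4116, part 0 (generated, helper12) -/

set_option autoImplicit false
set_option maxRecDepth 100000

namespace Cfsg.Agent.Lib.Helper12.TC.Hex4116

open Cfsg.Agent.Lib.Helper12.TC

theorem horbi0_0 : Fn.orbInvOneK TT [0] 1 2721 = true := by decide +kernel

theorem horbi0_1 : Fn.orbInvOneK TT [2] 1 2721 = true := by decide +kernel

theorem horbi0_2 : Fn.orbInvOneK TT [3] 1 2721 = true := by decide +kernel

theorem horbi0_3 : Fn.orbInvOneK TT [4] 1 2721 = true := by decide +kernel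

theorem horbi0_4 : Fn.orbInvOneK TT [5] 1 2721 = true := by decide +kernel

theorem horbi0_5 : Fn.orbInvOneK TT [1, 2, 3, 4, 1, 2, 3, 4, 1, 2, 3, 4, 1, 2, 3, 4, 1, 2, 3, 4, 1, 2, 3, 4, 1, 2, 3, 4] 1 2721 = true := by decide +kernel

theorem horbi1_0 : Fn.orbInvOneK TT [0] 2721 3146 = true := by decide +kernel

theorem horbi1_1 : Fn.orbInvOneK TT [2] 2721 3146 = true := by decide +kernel

theorem horbi1_2 : Fn.orbInvOneK TT [3] 2721 3146 = true := by decide +kernel

theorem horbi1_3 : Fn.orbInvOneK TT [4] 2721 3146 = true := by decide +kernel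

theorem horbi1_4 : Fn.orbInvOneK TT [5] 2721 3146 = true := by decide +kernel

theorem horbi1_5 : Fn.orbInvOneK TT [1, 2, 3, 4, 1, 2, 3, 4, 1, 2, 3, 4, 1, 2, 3, 4, 1, 2, 3, 4, 1, 2, 3, 4, 1, 2, 3, 4] 2721 3146 = true := by decide +kernel

theorem horbi2_0 : Fn.orbInvOneK TT [0] 3146 3147 = true := by decide +kernel

theorem horbi2_1 : Fn.orbInvOneK TT [2] 3146 3147 = true := by decide +kernel

theorem horbi2_2 : Fn.orbInvOneK TT [3] 3146 3147 = true := by decide +kernel

theorem horbi2_3 : Fn.orbInvOneK TT [4] 3146 3147 = true := by decide +kernel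

theorem horbi2_4 : Fn.orbInvOneK TT [5] 3146 3147 = true := by decide +kernel

theorem horbi2_5 : Fn.orbInvOneK TT [1, 2, 3, 4, 1, 2, 3, 4, 1, 2, 3, 4, 1, 2, 3, 4, 1, 2, 3, 4, 1, 2, 3, 4, 1, 2, 3, 4] 3146 3147 = true := by decide +kernel

theorem horbi3_0 : Fn.orbInvOneK TT [0] 3147 3572 = true := by decide +kernel

theorem horbi3_1 : Fn.orbInvOneK TT [2] 3147 3572 = true := by decide +kernel

theorem horbi3_2 : Fn.orbInvOneK TT [3] 3147 3572 = true := by decide +kernel

theorem horbi3_3 : Fn.orbInvOneK TT [4] 3147 3572 = true := by decide +kernel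

theorem horbi3_4 : Fn.orbInvOneK TT [5] 3147 3572 = true := by decide +kernel

theorem horbi3_5 : Fn.orbInvOneK TT [1, 2, 3, 4, 1, 2, 3, 4, 1, 2, 3, 4, 1, 2, 3, 4, 1, 2, 3, 4, 1, 2, 3, 4, 1, 2, 3, 4] 3147 3572 = true := by decide +kernel

theorem horbi4_0 : Fn.orbInvOneK TT [0] 3572 3844 = true := by decide +kernel

theorem horbi4_1 : Fn.orbInvOneK TT [2] 3572 3844 = true := by decide +kernel

theorem horbi4_2 : Fn.orbInvOneK TT [3] 3572 3844 = true := by decide +kernel

theorem horbi4_3 : Fn.orbInvOneK TT [4] 3572 3844 = true := by decide +kernel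

theorem horbi4_4 : Fn.orbInvOneK TT [5] 3572 3844 = true := by decide +kernel

theorem horbi4_5 : Fn.orbInvOneK TT [1, 2, 3, 4, 1, 2, 3, 4, 1, 2, 3, 4, 1, 2, 3, 4, 1, 2, 3, 4, 1, 2, 3, 4, 1, 2, 3, 4] 3572 3844 = true := by decide +kernel

theorem horbi5_0 : Fn.orbInvOneK TT [0] 3844 4116 = true := by decide +kernel

theorem horbi5_1 : Fn.orbInvOneK TT [2] 3844 4116 = true := by decide +kernel

theorem horbi5_2 : Fn.orbInvOneK TT [3] 3844 4116 = true := by decide +kernel

theorem horbi5_3 : Fn.orbInvOneK TT [4] 3844 4116 = true := by decide +kernel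

theorem horbi5_4 : Fn.orbInvOneK TT [5] 3844 4116 = true := by decide +kernel

theorem horbi5_5 : Fn.orbInvOneK TT [1, 2, 3, 4, 1, 2, 3, 4, 1, 2, 3, 4, 1, 2, 3, 4, 1, 2, 3, 4, 1, 2, 3, 4, 1, 2, 3, 4] 3844 4116 = true := by decide +kernel

theorem hperm0 : Fn.permOneK TT 0 cN = true := by decide +kernel

theorem hperm1 : Fn.permOneK TT 1 cN = true := by decide +kernel

theorem hperm2 : Fn.permOneK TT 2 cN = true := by decide +kernel

theorem hperm3 : Fn.permOneK TT 3 cN = true := by decide +kernel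

theorem hperm4 : Fn.permOneK TT 4 cN = true := by decide +kernel

theorem hperm5 : Fn.permOneK TT 5 cN = true := by decide +kernel

theorem hperm6 : Fn.permOneK TT 6 cN = true := by decide +kernel

theorem hm0 : Fn.marksK TT cN [([0, 1], 4)] = true := by decide +kernel

theorem hm1 : Fn.marksK TT cN [([0, 2], 2)] = true := by decide +kernel

theorem hm2 : Fn.marksK TT cN [([1, 2], 3)] = true := by decide +kernel

theorem hm3 : Fn.marksK TT cN [([0, 3], 2)] = true := by decide +kernel

theorem hm4 : Fn.marksK TT cN [([1, 3], 2)] = true := by decide +kernel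

theorem hm5 : Fn.marksK TT cN [([2, 3], 10)] = true := by decide +kernel

theorem hm6 : Fn.marksK TT cN [([0, 4], 2)] = true := by decide +kernel

theorem hm7 : Fn.marksK TT cN [([1, 4], 2)] = true := by decide +kernel

theorem hm8 : Fn.marksK TT cN [([2, 4], 2)] = true := by decide +kernel

theorem hm9 : Fn.marksK TT cN [([3, 4], 3)] = true := by decide +kernel

theorem hm10 : Fn.marksK TT cN [([0, 5], 2)] = true := by decide +kernel

theorem hm11 : Fn.marksK TT cN [([1, 5], 2)] = true := by decide +kernel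

theorem hm12 : Fn.marksK TT cN [([2, 5], 2)] = true := by decide +kernel

theorem hm13 : Fn.marksK TT cN [([3, 5], 3)] = true := by decide +kernel

theorem hm14 : Fn.marksK TT cN [([4, 5], 2)] = true := by decide +kernel

theorem hm15 : Fn.marksK TT cN [([0, 6], 2)] = true := by decide +kernel

theorem hm16 : Fn.marksK TT cN [([1, 6], 2)] = true := by decide +kernel

theorem hm17 : Fn.marksK TT cN [([2, 6], 2)] = true := by decide +kernel

theorem hm18 : Fn.marksK TT cN [([3, 6], 3)] = true := by decide +kernel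

theorem hm19 : Fn.marksK TT cN [([4, 6], 2)] = true := by decide +kernel

theorem hm20 : Fn.marksK TT cN [([5, 6], 4)] = true := by decide +kernel

theorem hm21 : Fn.marksK TT cN [([4, 6, 5, 6, 5], 1)] = true := by decide +kernel

theorem hm22 : Fn.marksK TT cN [([4, 2, 1, 0, 2, 1, 0, 2, 1, 0], 1)] = true := by decide +kernel

theorem hm23 : Fn.marksK TT cN [([0, 3, 2, 3, 2, 3, 2, 3, 2, 3, 2], 1)] = true := by decide +kernel

theorem hm24 : Fn.marksK TT cN [([2, 3, 5, 6], 4)] = true := by decide +kernel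

end Cfsg.Agent.Lib.Helper12.TC.Hex4116
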